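set_option autoImplicit false
namespace Cfsg.Agent.Lib.Helper6.TCD.M11HU
noncomputable def WDL0 (i : Nat) : Nat := Nat.land (Nat.shiftRight 0x2020211300a00020202113000a00012003131310a00020031313110a00000313131120a00003131311200a00031313112000a00013131120030a00031311200310a00013112003130a00031120031310a00011200313130a000000000222204000000000333304000000000000004000000000111104 (Nat.mul 60 (Nat.land i 15))) 1152921504606846975
noncomputable def WDL1 (i : Nat) : Nat := Nat.land (Nat.shiftRight 0x12131331133130d21313311331310d13133113313120d31331133131210d13311331312130d33113313121310d31133131213130d11331312131330d00002021130020a00020211300200a00002113002020a00021130020200a00011300202020a00013002020210a00030020202110a00000202021130a (Nat.mul 60 (Nat.land i 15))) 1152921504606846975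
noncomputable def WDP0N0 (i : Nat) : Nat := Bool.rec (WDL0 i) (WDL1 i) (Nat.ble 16 i)
noncomputable def WDL2 (i : Nat) : Nat := Nat.land (Nat.shiftRight 0x20302022002200d03020220022020d30202200220200d02022002202030d20220022020300d02200220203020d22002202030200d20022020302020d00220203020220d02202030202200d22020302022000d13313121313310d33131213133110d31312131331130d13121313311330d31213133113310d (Nat.mul 60 (Nat.land i 15))) 1152921504606846975
noncomputable def WDL3 (i : Nat) : Nat := Nat.land (Nat.shiftRight 0x230200000000000320200000000000010200000000000100220203020220020d02030202200220d (Nat.mul 60 (Nat.land i 15))) 1152921504606846975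
noncomputable def WDP0N1 (i : Nat) : Nat := Bool.rec (WDL2 i) (WDL3 i) (Nat.ble 48 i)
noncomputable def WD (i : Nat) : Nat := Bool.rec (WDP0N0 i) (WDP0N1 i) (Nat.ble 32 i)
end Cfsg.Agent.Lib.Helper6.TCD.M11HU
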