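set_option autoImplicit false
namespace Cfsg.Agent.Lib.Helper6.TCD.M11HU
noncomputable def WI (i : Nat) : Nat := Nat.land (Nat.shiftRight 0x20a000500820001218070b038501c240e100707038301c140e080703038101c040e00060c0305818280c1206080303818180c0a06040301818080c0206000384814200a0e05060282814100a06050202808140008120408020381018080a0404020181008080204000280008000600000000 (Nat.mul 17 (Nat.land i 255))) 131071
end Cfsg.Agent.Lib.Helper6.TCD.M11HU
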