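import Cfsg.Agent.Lib.Helper6.TCD.M11HU.SH
import Cfsg.Agent.Lib.Helper6.TCD.M11HU.SC
import Cfsg.Agent.Lib.Helper6.TCD.M11HU.NH
import Cfsg.Agent.Lib.Helper6.TCD.M11HU.NC
import Cfsg.Agent.Lib.Helper6.TCD.M11HU.WD
import Cfsg.Agent.Lib.Helper6.TCD.M11HU.WI
set_option autoImplicit false
namespace Cfsg.Agent.Lib.Helper6.TCD.M11HU
def n : Nat := 781
def ncol : Nat := 4
def nrw : Nat := 54
def nw : Nat := 54
def tmax : Nat := 3020
def INV : Nat := 8961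
def N : Nat := 720
end Cfsg.Agent.Lib.Helper6.TCD.M11HU
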